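import Groth.Agent.TopDim.K284.Basic
import Mathlib.Topology.NoetherianSpace
import Mathlib.Topology.Sober
import Mathlib.Topology.Compactness.Compact
import Mathlib.Data.Fin.Tuple.Basic

/-!
# Closed subsets in general position

In a Noetherian sober space with a dimension function, if every finite set of closed points lies in a good open set
then there are arbitrarily long families of good open sets whose complements meet properly.
-/

set_option autoImplicit false

namespace K76.GenPos

open TopologicalSpace Topology Finset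

variable {T : Type*} [TopologicalSpace T] [NoetherianSpace T] [QuasiSober T] [T0Space T]

omit [T0Space T] in
/-- The finitely many generic points of a closed subset. -/
theorem exists_finite_gen {Z : Set T} (hZ : IsClosed Z) :
    ∃ S : Set T, S.Finite ∧ S ⊆ Z ∧ ∀ z ∈ Z, ∃ c ∈ S, c ⤳ z := by
  have hq : QuasiSober Z := hZ.isClosedEmbedding_subtypeVal.quasiSober
  have hN : NoetherianSpace Z := IsInducing.subtypeVal.noetherianSpace
  have hfin : (irreducibleComponents Z).Finite := NoetherianSpace.finite_irreducibleComponents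
  have hgen : ∀ C ∈ irreducibleComponents Z, ∃ c : Z, IsGenericPoint c C := fun C hC =>
    QuasiSober.sober hC.1 (isClosed_of_mem_irreducibleComponents C hC)
  rcases Z.eq_empty_or_nonempty with rfl | ⟨z₀, hz₀⟩
  · exact ⟨∅, Set.finite_empty, subset_rfl, fun z hz => absurd hz (Set.notMem_empty z)⟩
  have hne : Nonempty Z := ⟨⟨z₀, hz₀⟩⟩
  choose! g hg using hgen
  refine ⟨Subtype.val '' (g '' irreducibleComponents Z), (hfin.image _).image _, ?_, ?_⟩
  · rintro _ ⟨c, -, rfl⟩
    exact c.2
  · intro z hz
    have hC := irreducibleComponent_mem_irreducibleComponents (⟨z, hz⟩ : Z)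
    refine ⟨(g (irreducibleComponent (⟨z, hz⟩ : Z)) : T), ⟨_, ⟨_, hC, rfl⟩, rfl⟩, ?_⟩
    have h1 : g (irreducibleComponent (⟨z, hz⟩ : Z)) ⤳ (⟨z, hz⟩ : Z) := by
      rw [specializes_iff_mem_closure, (hg _ hC).def]
      exact mem_irreducibleComponent
    exact h1.map continuous_subtype_val

omit [QuasiSober T] in
/-- Every point specializes to a closed point. -/
theorem exists_closed_point (c : T) : ∃ x : T, IsClosed ({x} : Set T) ∧ c ⤳ x := by
  obtain ⟨x, hx, hcl⟩ := IsClosed.exists_closed_singleton (S := closure ({c} : Set T)) isClosed_closure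
    ⟨c, subset_closure rfl⟩
  exact ⟨x, hcl, specializes_iff_mem_closure.mpr hx⟩

/-- **General position.** -/
theorem exists_family (δ : T → ℕ) (hδ : ∀ x y, x ⤳ y → x ≠ y → δ y < δ x) (n : ℕ) (hn : ∀ x, δ x ≤ n)
    (G : Set T → Prop) (hGo : ∀ U, G U → IsOpen U)
    (hG : ∀ S : Set T, S.Finite → (∀ x ∈ S, IsClosed ({x} : Set T)) → ∃ U, G U ∧ S ⊆ U) (N : ℕ) :
    ∃ U : Fin N → Set T, (∀ i, G (U i)) ∧ ∀ I : Finset (Fin N), ∀ z, (∀ i ∈ I, z ∉ U i) → δ z + #I ≤ n := by
  classical
  induction N with
  | zero =>
    refine ⟨fun i => i.elim0, fun i => i.elim0, fun I z _ => ?_⟩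
    rw [Finset.card_eq_zero.mpr (Finset.eq_empty_of_isEmpty I)]
    exact hn z
  | succ N ih =>
    obtain ⟨U, hU, hpos⟩ := ih
    have hZ : ∀ I : Finset (Fin N), IsClosed {z : T | ∀ i ∈ I, z ∉ U i} := by
      intro I
      have : {z : T | ∀ i ∈ I, z ∉ U i} = ⋂ i ∈ I, (U i)ᶜ := by
        ext z; simp
      rw [this]
      exact isClosed_biInter fun i _ => (hGo _ (hU i)).isClosed_compl
    choose S hSfin hSZ hSgen using fun I => exists_finite_gen (hZ I)
    choose x hxcl hx using fun c : T => exists_closed_point c
    obtain ⟨V, hV, hSV⟩ := hG (⋃ I, x '' S I) (Set.finite_iUnion fun I => (hSfin I).image _) (by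
      intro y hy
      obtain ⟨I, c, -, rfl⟩ := Set.mem_iUnion.mp hy
      exact hxcl c)
    refine ⟨Fin.snoc U V, fun i => ?_, fun I z hz => ?_⟩
    · refine Fin.lastCases ?_ (fun i => ?_) i
      · simpa using hV
      · simpa using hU i
    · set I' : Finset (Fin N) := Finset.univ.filter fun i => i.castSucc ∈ I with hI'
      have hzI' : ∀ i ∈ I', z ∉ U i := by
        intro i hi
        have := hz i.castSucc (Finset.mem_filter.mp hi).2
        simpa using this
      have hsub : I ⊆ I'.image Fin.castSucc ∪ {Fin.last N} := by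
        intro i hi
        rw [Finset.mem_union]
        induction i using Fin.lastCases with
        | last => exact Or.inr (Finset.mem_singleton_self _)
        | cast i =>
          exact Or.inl (Finset.mem_image.mpr ⟨i, Finset.mem_filter.mpr ⟨Finset.mem_univ _, hi⟩, rfl⟩)
      by_cases hlast : Fin.last N ∈ I
      · have hzV : z ∉ V := by simpa using hz _ hlast
        obtain ⟨c, hc, hcz⟩ := hSgen I' z hzI'
        have hcV : c ∈ V := (hx c).mem_open (hGo V hV) (hSV (Set.mem_iUnion.mpr ⟨I', c, hc, rfl⟩))
        have h1 := hδ c z hcz (by rintro rfl; exact hzV hcV)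
        have h2 := hpos I' c (hSZ I' hc)
        have h3 : #I ≤ #I' + 1 := by
          refine (Finset.card_le_card hsub).trans ((Finset.card_union_le _ _).trans ?_)
          rw [Finset.card_singleton]
          exact Nat.add_le_add_right Finset.card_image_le 1
        omega
      · have hsub' : I ⊆ I'.image Fin.castSucc := by
          intro i hi
          rcases Finset.mem_union.mp (hsub hi) with h | h
          · exact h
          · exact absurd (Finset.mem_singleton.mp h ▸ hi) hlast
        have h3 : #I ≤ #I' := (Finset.card_le_card hsub').trans Finset.card_image_le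
        have h2 := hpos I' z hzI'
        omega

theorem le_of_lt_succ {x : WithBot ℕ∞} {r : ℕ} (h : x < ((r + 1 : ℕ) : WithBot ℕ∞)) : x ≤ (r : WithBot ℕ∞) := by
  induction x using WithBot.recBotCoe with
  | bot => exact bot_le
  | coe a =>
    have h' : a < ((r + 1 : ℕ) : ℕ∞) := by exact_mod_cast h
    have : a ≤ (r : ℕ∞) := by
      rw [Nat.cast_add, Nat.cast_one] at h'
      exact ENat.lt_natCast_add_one_iff.mp h'
    exact_mod_cast this

/-- A closed subset of a sober space of dimension `≥ r` has a point whose closure has dimension `≥ r`. -/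
theorem exists_dim_le {T : Type*} [TopologicalSpace T] [QuasiSober T] {Z : Set T} (hZ : IsClosed Z) (r : ℕ)
    (h : (r : WithBot ℕ∞) ≤ topologicalKrullDim Z) :
    ∃ y ∈ Z, (r : WithBot ℕ∞) ≤ topologicalKrullDim (closure {y} : Set T) := by
  have hq : QuasiSober Z := hZ.isClosedEmbedding_subtypeVal.quasiSober
  have h1 := K284.TopDim.dim_eq_iSup_of_forall_irreducible (X := Z)
    (fun z : Z => (Subtype.val ⁻¹' closure {(z : T)} : Set Z)) (fun W hW => by
      obtain ⟨g, hg⟩ := QuasiSober.sober hW.closure isClosed_closure
      refine ⟨g, fun w hw => ?_⟩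
      have h2 : w ∈ closure ({g} : Set Z) := by
        rw [hg.def]
        exact subset_closure hw
      exact specializes_iff_mem_closure.mp ((specializes_iff_mem_closure.mpr h2).map continuous_subtype_val))
  by_contra hcon
  push Not at hcon
  have h3 : ∀ z : Z, topologicalKrullDim (Subtype.val ⁻¹' closure {(z : T)} : Set Z) < (r : WithBot ℕ∞) := by
    intro z
    refine lt_of_le_of_lt ?_ (hcon z z.2)
    let f : (Subtype.val ⁻¹' closure {(z : T)} : Set Z) → (closure {(z : T)} : Set T) := fun w => ⟨w.1.1, w.2⟩
    have hc : Continuous f := Continuous.subtype_mk (continuous_subtype_val.comp continuous_subtype_val) _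
    have hi : IsInducing (fun w : (Subtype.val ⁻¹' closure {(z : T)} : Set Z) => ((w : Z) : T)) :=
      IsInducing.comp IsInducing.subtypeVal IsInducing.subtypeVal
    have hf : IsInducing f := IsInducing.of_comp (g := Subtype.val) hc continuous_subtype_val hi
    exact hf.topologicalKrullDim_le
  rcases r with _ | r
  · rcases Z.eq_empty_or_nonempty with rfl | ⟨z, hz⟩
    · rw [h1, iSup_of_empty] at h
      exact absurd h (by simp)
    · have h4 := hcon z hz
      have h6 : IrreducibleSpace (closure {z} : Set T) := Subtype.irreducibleSpace isIrreducible_singleton.closure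
      have : Nonempty (IrreducibleCloseds (closure {z} : Set T)) :=
        ⟨⟨Set.univ, IrreducibleSpace.isIrreducible_univ _, isClosed_univ⟩⟩
      have h5 : (0 : WithBot ℕ∞) ≤ topologicalKrullDim (closure {z} : Set T) := Order.krullDim_nonneg
      exact absurd h4 (not_lt.mpr (by exact_mod_cast h5))
  · have h4 : topologicalKrullDim Z ≤ (r : WithBot ℕ∞) := by
      rw [h1]
      exact iSup_le fun z => le_of_lt_succ (h3 z)
    have h5 := h.trans h4
    exact absurd h5 (not_le.mpr (by exact_mod_cast Nat.lt_succ_self r))

end K76.GenPos
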