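import Groth.Agent.Variety.K76.KleimanChevalley
import Groth.Agent.S1572

/-!
# The Kleiman–Chevalley criterion, relative to the theorem of the base

`exists_ample`: `X` integral, proper over a field, with factorial local rings, and such that every finite set of closed
points lies in an affine open.  If `φ : Pic X → ℤ^p` is additive and classes in its kernel have trivial intersection
numbers, then `X` carries an ample invertible module.
-/

set_option autoImplicit false
universe u
open CategoryTheory CategoryTheory.Limits AlgebraicGeometry Opposite TopologicalSpace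

namespace K76.KC

open Groth.Agent Groth.Agent.Grpsch.PicGrp K909.InterML K909.Kleiman

variable (k : Type u) [Field k] (X : Scheme.{u}) [X.Over (Spec (CommRingCat.of k))]
  [IsProper (X ↘ Spec (CommRingCat.of k))] [IsIntegral X] (d : ℕ) (hd : topologicalKrullDim X ≤ d)

include hd in
theorem exists_ample
    (hufd : ∀ x : X, IsDomain (X.presheaf.stalk x) ∧ UniqueFactorizationMonoid (X.presheaf.stalk x))
    (p : ℕ) (φ : Additive (Pic X) →+ (Fin p → ℤ))
    (hφ : ∀ a : Pic X, φ (Additive.ofMul a) = 0 → ∀ F : X.Modules, Coh.IsCoh F → ∀ (r : ℕ) (c : Fin r → Pic X),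
      topologicalKrullDim (CohB1.support F) ≤ (r + 1 : ℕ) →
        inter k X d F (Fin.cons a c : Fin (r + 1) → Pic X) = 0)
    (hfin : ∀ S : Set X, S.Finite → (∀ x ∈ S, IsClosed ({x} : Set X)) →
      ∃ U : X.Opens, IsAffineOpen U ∧ S ⊆ (U : Set X)) :
    ∃ L : X.Modules, CohB1.IsAmple L := by
  classical
  have hN := Fga.IntAdd.isNoetherian k X
  have hsep : X.IsSeparated := ⟨by
    rw [← terminal.comp_from (X ↘ Spec (CommRingCat.of k))]
    infer_instance⟩
  obtain ⟨N, hN'⟩ := Tverberg.exists_combos p φ (d + 1)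
  obtain ⟨x₀, hx₀, -⟩ := GenPos.exists_closed_point (genericPoint X)
  have htrd : ∀ x : X, VarietyB.DimSch.trd k X x ≤ d := fun x => by
    exact_mod_cast (K426.DimKit.trd_le_dim k X x).trans hd
  obtain ⟨U, hU, hpos⟩ := GenPos.exists_family (T := X) (fun x => VarietyB.DimSch.trd k X x)
    (fun x y hxy hne => K426.Cut.trd_lt k hxy hne) d htrd
    (fun U => ∃ W : X.Opens, (W : Set X) = U ∧ IsAffineOpen W ∧ (W : Set X).Nonempty)
    (by
      rintro U ⟨W, rfl, -, -⟩
      exact W.2)
    (by
      intro S hS hScl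
      obtain ⟨W, hW, hSW⟩ := hfin (insert x₀ S) (hS.insert x₀) (by
        rintro x (rfl | hx)
        · exact hx₀
        · exact hScl x hx)
      exact ⟨W, ⟨W, rfl, hW, ⟨x₀, hSW (Set.mem_insert _ _)⟩⟩, (Set.subset_insert _ _).trans hSW⟩) N
  choose W hWU hWaff hWne using hU
  have hdense : ∀ i, Dense (W i : Set X) := fun i => (W i).2.dense (hWne i)
  choose I hI hIs using fun i => S1572.result X (W i) (hWaff i) (hdense i) (fun x _ => hufd x)
  have hIc : ∀ i, (I i).support.compl = W i := by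
    intro i
    refine TopologicalSpace.Opens.ext ?_
    change ((I i).support : Set X)ᶜ = W i
    rw [hIs i, compl_compl]
  obtain ⟨a, hane, hadisj, haφ⟩ := hN' fun i => Additive.ofMul (dcl (hI i))
  let M : Pic X := ∏ i, dcl (hI i) ^ a 0 i
  have hsum : ∀ κ, (∑ i, a κ i • Additive.ofMul (dcl (hI i)) : Additive (Pic X)) =
      Additive.ofMul (∏ i, dcl (hI i) ^ a κ i) := by
    intro κ
    rw [ofMul_prod]
    rfl
  have hMκ : ∀ κ, φ (Additive.ofMul (M * (∏ i, dcl (hI i) ^ a κ i)⁻¹)) = 0 := by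
    intro κ
    rw [ofMul_mul, ofMul_inv, map_add, map_neg, ← hsum κ, show Additive.ofMul M = _ from (hsum 0).symm,
      haφ 0 κ, add_neg_cancel]
  obtain ⟨L, hL, hML⟩ := exists_mk M
  refine ⟨L, K424.NakMain.nak k X d hd L hL ?_⟩
  intro V i _ _ s hs hV
  rw [← hML]
  refine pos k X d hd I hI (fun i => by rw [hIc i]; exact hWaff i) a hane ?_ M ?_ s (OZ i) (isCoh_OZ i)
    (by rw [dim_OZ]; exact hV)
  · intro z
    by_contra hcon
    push Not at hcon
    choose g hg0 hg using hcon
    have hinj : Function.Injective g := by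
      intro κ κ' h
      by_contra hne
      have h1 := hadisj κ κ' (g κ) hne (hg0 κ)
      rw [h] at h1
      exact hg0 κ' h1
    have h2 := hpos (Finset.univ.image g) z (by
      intro j hj
      obtain ⟨κ, -, rfl⟩ := Finset.mem_image.mp hj
      have h3 := hg κ
      rw [← SetLike.mem_coe, hIs (g κ)] at h3
      rw [← hWU (g κ)]
      exact h3)
    rw [Finset.card_image_of_injective _ hinj, Finset.card_univ, Fintype.card_fin] at h2
    omega
  · intro κ F hF r c hr
    have h1 : M = (M * (∏ i, dcl (hI i) ^ a κ i)⁻¹) * ∏ i, dcl (hI i) ^ a κ i := by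
      rw [inv_mul_cancel_right]
    rw [h1, inter_cons_mul k X d hd F hF _ _ _ hr, hφ _ (hMκ κ) F hF r c hr, zero_add]

/-- Numerically trivial classes have trivial intersection numbers, relative to `χ(F ⊗ L) = χ(F)`. -/
theorem inter_eq_zero_of_chi (k : Type u) [Field k] (X : Scheme.{u}) [X.Over (Spec (CommRingCat.of k))]
    [IsProper (X ↘ Spec (CommRingCat.of k))] (d : ℕ) (hd : topologicalKrullDim X ≤ d) (L : X.Modules)
    (hL : PicF.IsInvertible L)
    (h : ∀ F : X.Modules, Coh.IsCoh F → FGA.eulerCharLE k X (CohB1.tensorMod F L) d = FGA.eulerCharLE k X F d)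
    (F : X.Modules) (hF : Coh.IsCoh F) (r : ℕ) (c : Fin r → Pic X)
    (hr : topologicalKrullDim (CohB1.support F) ≤ (r + 1 : ℕ)) :
    inter k X d F (Fin.cons (mk L hL) c : Fin (r + 1) → Pic X) = 0 := by
  have h0 : Groth.Agent.Pic13.H970.IntForm.I k X d F
      (Fin.cons (mk L hL) (fun i => (c i)⁻¹) : Fin (r + 1) → Pic X) = 0 := by
    refine Groth.Agent.Pic13.H970.IntForm.I_cons_eq_zero_of_chi k X d F _ fun x => ?_
    obtain ⟨N, hN, rfl⟩ := exists_mk x
    rw [Groth.Agent.Pic13.H970.IntForm.toMC_mk, Groth.Agent.Pic13.H970.IntForm.toMC_mk,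
      ← Fga.PicMon.mc_tensor, Fga.PicMon.chiCl_mc, Fga.PicMon.chiCl_mc]
    have hNF : Coh.IsCoh (CohB1.tensorMod N F) :=
      Sga67.CohBasic.isCoh_of_iso (Ega2.Tens.swap F _) (Fga.TwistCoh.isCoh_tensor hF hN)
    rw [← h _ hNF]
    obtain ⟨e⟩ := (Fga.PicMon.mc_eq_iff (CohB1.tensorMod (CohB1.tensorMod L N) F)
      (CohB1.tensorMod (CohB1.tensorMod N F) L)).mp (by
        rw [Fga.PicMon.mc_tensor, Fga.PicMon.mc_tensor, Fga.PicMon.mc_tensor, Fga.PicMon.mc_tensor]
        rw [mul_assoc, mul_comm])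
    exact Fga.PicMon.euler_iso k X e d
  have h1 : inter k X d F (Fin.cons (mk L hL)⁻¹ c : Fin (r + 1) → Pic X) = 0 := by
    rw [inter_cons, inv_inv]
    exact h0
  have h2 := inter_cons_zpow k X d hd F hF ((mk L hL)⁻¹) (-1) c hr
  rw [zpow_neg, zpow_one, inv_inv, h1, mul_zero] at h2
  exact h2

end K76.KC
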