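import Mathlib.Analysis.Convex.Radon
import Mathlib.Analysis.Convex.Caratheodory
import Mathlib.Analysis.Convex.Combination
import Mathlib.LinearAlgebra.FreeModule.Finite.Basic
import Mathlib.Algebra.Module.PID

/-!
# A weak form of Tverberg's theorem and its integral version

Among sufficiently many vectors of a finite-dimensional rational vector space one finds `n` pairwise disjoint
subfamilies whose convex hulls have a common point (centre point by Helly, then Carathéodory).
-/

set_option autoImplicit false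

namespace K76.Tverberg

open Module Finset

section field

variable {E : Type*} [AddCommGroup E] [Module ℚ E] [FiniteDimensional ℚ E]

/-- Centre point: a point lying in the convex hull of every subfamily that omits at most `t` members. -/
theorem exists_centre (t N : ℕ) (hN : (finrank ℚ E + 1) * t < N) (f : Fin N → E) :
    ∃ p : E, ∀ S : Finset (Fin N), #Sᶜ ≤ t → p ∈ convexHull ℚ (f '' (S : Set (Fin N))) := by
  classical
  have h := Convex.helly_theorem' (𝕜 := ℚ) (E := E) (ι := Finset (Fin N))
    (F := fun S => convexHull ℚ (f '' (S : Set (Fin N)))) (s := Finset.univ.filter fun S => #Sᶜ ≤ t)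
    (fun S _ => convex_convexHull ℚ _) ?_
  · obtain ⟨p, hp⟩ := h
    refine ⟨p, fun S hS => ?_⟩
    simp only [Set.mem_iInter] at hp
    exact hp S (by simpa using hS)
  · intro I hI hcard
    have hU : #(I.biUnion fun S => Sᶜ) < N := by
      refine lt_of_le_of_lt (Finset.card_biUnion_le_card_mul I (fun S => Sᶜ) t ?_) ?_
      · intro S hS
        simpa using hI hS
      · exact lt_of_le_of_lt (Nat.mul_le_mul_right t hcard) hN
    obtain ⟨i, hi⟩ : ∃ i : Fin N, i ∉ I.biUnion fun S => Sᶜ := by
      by_contra hcon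
      push Not at hcon
      have : I.biUnion (fun S => Sᶜ) = Finset.univ := Finset.eq_univ_of_forall hcon
      rw [this, Finset.card_univ, Fintype.card_fin] at hU
      exact lt_irrefl _ hU
    refine ⟨f i, ?_⟩
    simp only [Set.mem_iInter]
    intro S hS
    refine subset_convexHull ℚ _ ⟨i, ?_, rfl⟩
    by_contra hiS
    exact hi (Finset.mem_biUnion.mpr ⟨S, hS, Finset.mem_compl.mpr hiS⟩)

/-- Carathéodory for families. -/
theorem exists_small {N : ℕ} (f : Fin N → E) (S : Finset (Fin N)) {p : E}
    (hp : p ∈ convexHull ℚ (f '' (S : Set (Fin N)))) :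
    ∃ A ⊆ S, #A ≤ finrank ℚ E + 1 ∧ ∃ w : Fin N → ℚ, (∀ i, 0 ≤ w i) ∧ (∀ i, i ∉ A → w i = 0) ∧
      ∑ i, w i = 1 ∧ ∑ i, w i • f i = p := by
  classical
  obtain ⟨ι, hι, z, w, hz, haff, hw, hw1, hwp⟩ := eq_pos_convex_span_of_mem_convexHull hp
  have hz' : ∀ j : ι, ∃ i ∈ S, f i = z j := by
    intro j
    obtain ⟨i, hi, hij⟩ := hz (Set.mem_range_self j)
    exact ⟨i, hi, hij⟩
  choose g hgS hgf using hz'
  have hginj : Function.Injective g := by
    intro a b hab
    have : z a = z b := by rw [← hgf, ← hgf, hab]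
    exact haff.injective this
  refine ⟨Finset.univ.image g, ?_, ?_, fun i => ∑ j with g j = i, w j, ?_, ?_, ?_, ?_⟩
  · intro i hi
    obtain ⟨j, -, rfl⟩ := Finset.mem_image.mp hi
    exact hgS j
  · refine (Finset.card_image_le).trans ?_
    rw [Finset.card_univ]
    have h1 := haff.card_le_finrank_succ
    exact h1.trans (by gcongr; exact Submodule.finrank_le _)
  · exact fun i => Finset.sum_nonneg fun j _ => (hw j).le
  · intro i hi
    refine Finset.sum_eq_zero fun j hj => absurd ?_ hi
    exact Finset.mem_image.mpr ⟨j, Finset.mem_univ _, (Finset.mem_filter.mp hj).2⟩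
  · rw [← hw1]
    exact Finset.sum_fiberwise_of_maps_to (fun j _ => Finset.mem_univ (g j)) w
  · rw [← hwp]
    have : ∀ i, (∑ j with g j = i, w j) • f i = ∑ j with g j = i, w j • z j := by
      intro i
      rw [Finset.sum_smul]
      refine Finset.sum_congr rfl fun j hj => ?_
      rw [← hgf, (Finset.mem_filter.mp hj).2]
    simp only [this]
    exact Finset.sum_fiberwise_of_maps_to (fun j _ => Finset.mem_univ (g j)) fun j => w j • z j

/-- Weak Tverberg theorem. -/
theorem tverberg (n : ℕ) : ∃ N : ℕ, ∀ f : Fin N → E, ∃ (w : Fin n → Fin N → ℚ) (p : E),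
    (∀ k i, 0 ≤ w k i) ∧ (∀ k, ∑ i, w k i = 1) ∧ (∀ k l i, k ≠ l → w k i ≠ 0 → w l i = 0) ∧
      ∀ k, ∑ i, w k i • f i = p := by
  classical
  set r := finrank ℚ E + 1 with hr
  refine ⟨r * (n * r) + 1, fun f => ?_⟩
  obtain ⟨p, hp⟩ := exists_centre (n * r) (r * (n * r) + 1) (Nat.lt_succ_self _) f
  have key : ∀ m ≤ n, ∃ (A : Fin m → Finset (Fin (r * (n * r) + 1))) (w : Fin m → Fin (r * (n * r) + 1) → ℚ),
      (∀ k, #(A k) ≤ r) ∧ (∀ k l, k ≠ l → Disjoint (A k) (A l)) ∧ (∀ k i, 0 ≤ w k i) ∧
        (∀ k, ∑ i, w k i = 1) ∧ (∀ k i, i ∉ A k → w k i = 0) ∧ ∀ k, ∑ i, w k i • f i = p := by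
    intro m
    induction m with
    | zero => exact fun _ => ⟨fun k => k.elim0, fun k => k.elim0, fun k => k.elim0, fun k => k.elim0,
        fun k => k.elim0, fun k => k.elim0, fun k => k.elim0, fun k => k.elim0⟩
    | succ m ih =>
      intro hm
      obtain ⟨A, w, h1, h2, h3, h4, h5, h6⟩ := ih (by omega)
      set T := Finset.univ.biUnion A with hT
      have hTc : #T ≤ n * r := by
        have : #T ≤ #(Finset.univ : Finset (Fin m)) * r :=
          Finset.card_biUnion_le_card_mul _ _ _ fun k _ => h1 k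
        rw [Finset.card_univ, Fintype.card_fin] at this
        exact this.trans (Nat.mul_le_mul_right r (by omega))
      have hpT := hp Tᶜ (by rwa [compl_compl])
      obtain ⟨B, hB, hBc, v, hv0, hvB, hv1, hvp⟩ := exists_small f Tᶜ hpT
      have hdisj : ∀ k, Disjoint (A k) B := by
        intro k
        rw [Finset.disjoint_left]
        intro i hi hiB
        exact (Finset.mem_compl.mp (hB hiB)) (Finset.mem_biUnion.mpr ⟨k, Finset.mem_univ _, hi⟩)
      refine ⟨Fin.snoc A B, Fin.snoc w v, ?_, ?_, ?_, ?_, ?_, ?_⟩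
      · intro k
        refine Fin.lastCases ?_ (fun k => ?_) k
        · simpa using hBc
        · simpa using h1 k
      · intro k l
        refine Fin.lastCases ?_ (fun k => ?_) k <;> refine Fin.lastCases ?_ (fun l => ?_) l
        · intro h; exact absurd rfl h
        · intro _; simpa using (hdisj l).symm
        · intro _; simpa using hdisj k
        · intro h; simpa using h2 k l (fun e => h (by rw [e]))
      · intro k i
        refine Fin.lastCases ?_ (fun k => ?_) k
        · simpa using hv0 i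
        · simpa using h3 k i
      · intro k
        refine Fin.lastCases ?_ (fun k => ?_) k
        · simpa using hv1
        · simpa using h4 k
      · intro k i
        refine Fin.lastCases ?_ (fun k => ?_) k
        · simpa using hvB i
        · simpa using h5 k i
      · intro k
        refine Fin.lastCases ?_ (fun k => ?_) k
        · simpa using hvp
        · simpa using h6 k
  obtain ⟨A, w, h1, h2, h3, h4, h5, h6⟩ := key n le_rfl
  refine ⟨w, p, h3, h4, fun k l i hkl hw => ?_, h6⟩
  refine h5 l i fun hil => ?_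
  have hik : i ∈ A k := by
    by_contra hik
    exact hw (h5 k i hik)
  exact (Finset.disjoint_left.mp (h2 k l hkl)) hik hil

end field

/-- Clearing denominators of finitely many non-negative rationals. -/
theorem exists_common_denominator {ι : Type*} [Finite ι] (w : ι → ℚ) (hw : ∀ i, 0 ≤ w i) :
    ∃ (c : ℕ) (a : ι → ℕ), 0 < c ∧ ∀ i, (a i : ℚ) = c * w i := by
  classical
  have := Fintype.ofFinite ι
  refine ⟨∏ i, (w i).den, fun i => (w i).num.toNat * ∏ j ∈ Finset.univ.erase i, (w j).den,
    Finset.prod_pos fun i _ => (w i).den_pos, fun i => ?_⟩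
  have h1 : ((∏ j, (w j).den : ℕ) : ℚ) = (w i).den * ((∏ j ∈ Finset.univ.erase i, (w j).den : ℕ) : ℚ) := by
    rw [← Finset.mul_prod_erase Finset.univ (fun j => (w j).den) (Finset.mem_univ i)]
    push_cast
    ring
  have h2 : (((w i).num.toNat : ℕ) : ℚ) = (w i).den * w i := by
    have h3 : (((w i).num.toNat : ℤ)) = (w i).num := Int.toNat_of_nonneg (Rat.num_nonneg.mpr (hw i))
    have h4 : (((w i).num.toNat : ℕ) : ℚ) = (((w i).num : ℤ) : ℚ) := by exact_mod_cast congrArg (Int.cast (R := ℚ)) h3
    rw [h4]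
    exact (Rat.den_mul_eq_num _).symm
  push_cast at h1 ⊢
  rw [h2, h1]
  ring

/-- **Integral version**: `φ : P → ℤ^r` additive.  Among sufficiently many elements of `P` there are `n` non-zero
non-negative integral combinations with pairwise disjoint supports and the same image under `φ`. -/
theorem exists_combos {P : Type*} [AddCommGroup P] (r : ℕ) (φ : P →+ (Fin r → ℤ)) (n : ℕ) :
    ∃ N : ℕ, ∀ δ : Fin N → P, ∃ a : Fin n → Fin N → ℕ,
      (∀ k, ∃ i, a k i ≠ 0) ∧ (∀ k l i, k ≠ l → a k i ≠ 0 → a l i = 0) ∧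
        ∀ k l, φ (∑ i, a k i • δ i) = φ (∑ i, a l i • δ i) := by
  classical
  obtain ⟨N, hN⟩ := tverberg (E := Fin r → ℚ) n
  refine ⟨N, fun δ => ?_⟩
  obtain ⟨w, p, h1, h2, h3, h4⟩ := hN fun i j => (φ (δ i) j : ℚ)
  obtain ⟨c, a, hc, ha⟩ := exists_common_denominator (ι := Fin n × Fin N) (fun x => w x.1 x.2)
    fun x => h1 x.1 x.2
  have hc' : (c : ℚ) ≠ 0 := by exact_mod_cast hc.ne'
  have hz : ∀ k i, a (k, i) = 0 ↔ w k i = 0 := by
    intro k i
    rw [← Nat.cast_eq_zero (R := ℚ), ha (k, i)]
    simp [hc']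
  refine ⟨fun k i => a (k, i), fun k => ?_, fun k l i hkl hk => ?_, fun k l => ?_⟩
  · by_contra hcon
    push Not at hcon
    have h5 := h2 k
    rw [Finset.sum_eq_zero fun i _ => (hz k i).mp (hcon i)] at h5
    exact zero_ne_one h5
  · exact (hz l i).mpr (h3 k l i hkl fun h => hk ((hz k i).mpr h))
  · have h5 : ∀ k j, ((φ (∑ i, a (k, i) • δ i) j : ℤ) : ℚ) = c * p j := by
      intro k j
      rw [map_sum, Finset.sum_apply]
      have h6 := congrFun (h4 k) j
      rw [Finset.sum_apply] at h6
      rw [← h6, Finset.mul_sum]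
      push_cast
      refine Finset.sum_congr rfl fun i _ => ?_
      rw [map_nsmul, Pi.smul_apply, nsmul_eq_mul, Pi.smul_apply, smul_eq_mul]
      push_cast
      rw [ha (k, i)]
      ring
    funext j
    have h7 := (h5 k j).trans (h5 l j).symm
    exact_mod_cast h7

/-- A torsion-free quotient of finite type gives a map to `ℤ^r` with the given kernel. -/
theorem exists_hom_of_fg {P : Type*} [AddCommGroup P] (K : AddSubgroup P)
    (hsat : ∀ (n : ℕ) (x : P), n ≠ 0 → n • x ∈ K → x ∈ K) (S : Finset P)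
    (hfg : ∀ x : P, ∃ y ∈ AddSubgroup.closure (S : Set P), x - y ∈ K) :
    ∃ (r : ℕ) (φ : P →+ (Fin r → ℤ)), ∀ x, φ x = 0 ↔ x ∈ K := by
  classical
  let Q := P ⧸ K
  have hmk : ∀ x : P, (QuotientAddGroup.mk' K x = 0 ↔ x ∈ K) := fun x => by
    rw [QuotientAddGroup.mk'_apply, QuotientAddGroup.eq_zero_iff]
  have hfin : Module.Finite ℤ Q := by
    rw [Module.finite_def]
    refine ⟨S.image (QuotientAddGroup.mk' K), ?_⟩
    rw [eq_top_iff]
    rintro q -
    obtain ⟨x, rfl⟩ := QuotientAddGroup.mk'_surjective K q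
    obtain ⟨y, hy, hxy⟩ := hfg x
    have h1 : QuotientAddGroup.mk' K x = QuotientAddGroup.mk' K y := by
      rw [← sub_eq_zero, ← map_sub]
      exact (hmk _).mpr hxy
    rw [h1]
    clear h1 hxy
    induction hy using AddSubgroup.closure_induction with
    | mem z hz => exact Submodule.subset_span (by simpa using ⟨z, hz, rfl⟩)
    | zero => rw [map_zero]; exact zero_mem _
    | add z w _ _ hz hw =>
      rw [map_add]
      exact add_mem hz hw
    | neg z _ hz =>
      rw [map_neg]
      exact neg_mem hz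
  have htf : Module.IsTorsionFree ℤ Q := by
    refine Module.IsTorsionFree.of_smul_eq_zero fun m q hq => ?_
    by_contra hcon
    push Not at hcon
    obtain ⟨x, rfl⟩ := QuotientAddGroup.mk'_surjective K q
    have h1 : (m.natAbs) • x ∈ K := by
      have h2 : m • x ∈ K := (hmk _).mp (by rw [map_zsmul]; exact hq)
      rcases Int.natAbs_eq m with h | h
      · rw [h, natCast_zsmul] at h2
        exact h2
      · rw [h, neg_smul, natCast_zsmul] at h2
        exact (neg_mem_iff).mp h2
    exact hcon.2 ((hmk x).mpr (hsat _ x (by simpa using hcon.1) h1))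
  obtain ⟨r, ⟨b⟩⟩ : ∃ r : ℕ, Nonempty (Module.Basis (Fin r) ℤ Q) := by
    have := Module.free_of_finite_type_torsion_free' (R := ℤ) (M := Q)
    exact ⟨_, ⟨Module.finBasis ℤ Q⟩⟩
  refine ⟨r, (b.equivFun.toLinearMap.toAddMonoidHom).comp (QuotientAddGroup.mk' K), fun x => ?_⟩
  rw [← hmk x]
  change b.equivFun (QuotientAddGroup.mk' K x) = 0 ↔ _
  rw [LinearEquiv.map_eq_zero_iff]

end K76.Tverberg
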