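import Groth.Agent.Variety.K424.NakMain
import Groth.Agent.Variety.K420.DimDrop
import Groth.Agent.Variety.K426.Cut
import Groth.Agent.Variety.K76.GenPos
import Groth.Agent.Variety.K76.Tverberg
import Groth.Agent.Dix.IdealModCartier
import Groth.Agent.Sga2lef.H503.ProZero
import Groth.Agent.S8862

/-!
# Positivity from divisors in general position (towards the Kleiman–Chevalley criterion)

`X` proper over a field `k`.  Let `D_i` be effective Cartier divisors with affine complements and `m` a class such that
for finitely many families of coefficients `a_κ` (not all zero) `m` is numerically `∑ a_κ,i D_i`, and such that no point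
lies on the support of every `∑ a_κ,i D_i`.  Then `(m^s · F) > 0` for every coherent `F` with `s`-dimensional support, so
`m` is ample.
-/

set_option autoImplicit false
universe u
open CategoryTheory CategoryTheory.Limits AlgebraicGeometry Opposite TopologicalSpace

namespace K76.KC

open Groth.Agent Groth.Agent.Fga Groth.Agent.Fga.MultForm Groth.Agent.Fga.PicMon Groth.Agent.Grpsch.PicGrp
  K909.InterML K909.Kleiman Groth.Agent.Dix.IdealModCartier

section length

variable {X : Scheme.{u}}

/-- Strict positivity is tested on integral closed subschemes of top dimension. -/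
theorem pos_of_integral [IsNoetherian X] (φ : X.Modules → ℤ) (hφ : ChiBasic.IsAdd φ) (r : ℕ)
    (hvan : ∀ F : X.Modules, Coh.IsCoh F → topologicalKrullDim (CohB1.support F) < r → φ F = 0)
    (hint : ∀ (Z : Scheme.{u}) (i : Z ⟶ X) [IsClosedImmersion i] [IsIntegral Z],
      topologicalKrullDim Z = r → 0 < φ ((Coh.push i).obj (Coh.structureModule Z)))
    (F : X.Modules) (hF : Coh.IsCoh F) (hr : topologicalKrullDim (CohB1.support F) = r) : 0 < φ F := by
  classical
  have hTc := Ega3B.Devissage.isClosed_support hF
  choose Z i hi hZ hgen hrange using fun y : X => IntegralSub.exists_integral_closed y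
  have hfin := K909.DevNonneg.finite_top (CohB1.support F) hTc r hr.le
  have h := K909.DevNonneg.length_sum φ hφ r hvan (CohB1.support F) hTc hr.le hfin.toFinset (fun y => by simp)
    (fun y => (Coh.push (i y)).obj (Coh.structureModule (Z y)))
    (fun y _ => by
      have := hi y
      exact CycB.ClosSheaf.isCoh_push_structureModule (i y))
    (fun y _ => by
      have := hi y
      rw [← hrange y]
      exact CohqB.DevSimple.support_push_subset_range (i y) _)
    (fun y _ => by
      have := hi y
      have := hZ y
      have hne : Nonempty ((⊤ : (Z y).Opens) : Scheme.{u}) := ⟨⟨genericPoint (Z y), trivial⟩⟩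
      have h := CohqB.DevSimple.isSimpleModule_stalk_push (i y) (Coh.structureModule (Z y)) ⊤
        ⟨Scheme.Modules.restrictUnitIso _⟩
      rw [hgen y] at h
      exact h) F hF subset_rfl
  have hpos : ∀ y ∈ hfin.toFinset, 0 < φ ((Coh.push (i y)).obj (Coh.structureModule (Z y))) := by
    intro y hy
    have hy2 : topologicalKrullDim (closure {y} : Set X) = r := ((Set.Finite.mem_toFinset _).mp hy).2
    have := hi y
    have := hZ y
    refine hint (Z y) (i y) ?_
    rw [← hy2, ← hrange y]
    exact IsHomeomorph.topologicalKrullDim_eq _ (i y).isClosedEmbedding.isEmbedding.toHomeomorph.isHomeomorph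
  rw [h.2]
  obtain ⟨y, hyT, hyr⟩ := GenPos.exists_dim_le hTc r hr.ge
  have hyr' : topologicalKrullDim (closure {y} : Set X) = r :=
    le_antisymm ((DimLt.topologicalKrullDim_mono
      (closure_minimal (Set.singleton_subset_iff.mpr hyT) hTc)).trans hr.le) hyr
  have hyS : y ∈ hfin.toFinset := (Set.Finite.mem_toFinset _).mpr ⟨hyT, hyr'⟩
  have hlen : 0 < (len F y).toNat := by
    rw [Nat.pos_iff_ne_zero]
    intro h0
    rcases ENat.toNat_eq_zero.mp h0 with h1 | h1
    · have h2 : Subsingleton (F.presheaf.stalk y) := Module.length_eq_zero_iff.mp h1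
      exact (CohqB.DevSupport.not_mem_support_iff F y).mpr h2 hyT
    · exact h.1 y hyS h1
  refine Finset.sum_pos' (fun z hz => mul_nonneg (Int.natCast_nonneg _) (hpos z hz).le)
    ⟨y, hyS, mul_pos (by exact_mod_cast hlen) (hpos y hyS)⟩

end length

section divisor

/-- The class of an effective Cartier divisor. -/
noncomputable def dcl {X : Scheme.{u}} {I : X.IdealSheafData} (hI : BlowUp.IsEffCartierIdeal I) : Pic X :=
  (mk (ClSub.idealMod I) (isInvertible_idealMod hI))⁻¹

theorem pull_dcl {X Y : Scheme.{u}} (f : Y ⟶ X) {I : X.IdealSheafData} (hI : BlowUp.IsEffCartierIdeal I)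
    (hI' : BlowUp.IsEffCartierIdeal (I.comap f)) : pull f (dcl hI) = dcl hI' := by
  unfold dcl
  rw [map_inv, pull_mk]
  congr 1
  exact (mk_eq_iff _ _).mpr (pullback_idealMod f hI hI')

variable (k : Type u) [Field k] (V : Scheme.{u}) [V.Over (Spec (CommRingCat.of k))]
  [IsProper (V ↘ Spec (CommRingCat.of k))] (d : ℕ) (hd : topologicalKrullDim V ≤ d)

theorem isCoh_quotMod [IsNoetherian V] (J : V.IdealSheafData) : Coh.IsCoh (ClSub.quotMod J) :=
  isCoh_OZ J.subschemeι

include hd in
/-- Cutting the structure sheaf by an effective Cartier divisor. -/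
theorem inter_div {J : V.IdealSheafData} (hJ : BlowUp.IsEffCartierIdeal J) {r : ℕ} (c : Fin r → Pic V) :
    inter k V d (Coh.structureModule V) (Fin.cons (dcl hJ) c : Fin (r + 1) → Pic V) =
      inter k V d (ClSub.quotMod J) c := by
  have := Fga.IntAdd.isNoetherian k V
  have hO : Coh.IsCoh (Coh.structureModule V) := CurvesC.UnitCoh.isCoh_unit V
  have hA := isInvertible_idealMod hJ
  have hQ : Coh.IsCoh (ClSub.quotMod J) := isCoh_quotMod V J
  have hS := Groth.Agent.Sga2lef.H503.ProZero.ses_shortExact J
  have hI : Coh.IsCoh (ClSub.idealMod J) := Fga.HodgeSec.isCoh_of_isInvertible hA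
  have hadd := isAdd_inter k V d hd c _ hS hI hO hQ
  rw [inter_cons]
  unfold dcl
  rw [inv_inv, Groth.Agent.Pic13.H970.IntForm.I_cons_mk]
  change inter k V d _ c - inter k V d (CohB1.tensorMod (ClSub.idealMod J) (Coh.structureModule V)) c = _
  rw [inter_iso k V d _ (Ega2.Tens.runit (ClSub.idealMod J)) c]
  change inter k V d (Coh.structureModule V) c = inter k V d (ClSub.idealMod J) c + inter k V d (ClSub.quotMod J) c at hadd
  rw [hadd]
  ring

end divisor

section dim

/-- An effective Cartier divisor with non-empty support on an integral scheme has codimension one. -/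
theorem dim_support_eq (k : Type u) [Field k] (V : Scheme.{u}) [V.Over (Spec (CommRingCat.of k))]
    [IsProper (V ↘ Spec (CommRingCat.of k))] [IsIntegral V] (s : ℕ) (hdim : topologicalKrullDim V = ((s + 1 : ℕ) : WithBot ℕ∞))
    {J : V.IdealSheafData} (hJ : BlowUp.IsEffCartierIdeal J) (hne : (J.support : Set V).Nonempty) :
    topologicalKrullDim (CohB1.support (ClSub.quotMod J)) = s := by
  have := Fga.IntAdd.isNoetherian k V
  have hsup : CohB1.support (ClSub.quotMod J) = (J.support : Set V) := by
    change CohB1.support (OZ J.subschemeι) = _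
    rw [support_OZ, Scheme.IdealSheafData.range_subschemeι]
  refine le_antisymm (K420.DimDrop.dim_support_quotMod V s hdim.le J hJ) ?_
  rw [hsup]
  obtain ⟨y, hy⟩ := hne
  have hcl : IsClosed (J.support : Set V) := J.support.isClosed
  obtain ⟨c, -, hcW, hmax, -⟩ := K426.Cut.exists_of_mem_irreducibleComponents hcl
    (irreducibleComponent_mem_irreducibleComponents (⟨y, hy⟩ : (J.support : Set V)))
  obtain ⟨U, hcU, f, hf, hJf⟩ := hJ c
  have hmem : ∀ z ∈ U.1, z ∈ J.support ↔ z ∉ V.basicOpen f := by
    intro z hz
    rw [Scheme.IdealSheafData.mem_support_iff_of_mem hz, hJf, Scheme.zeroLocus_span, Scheme.zeroLocus_singleton]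
    rfl
  have hξ : genericPoint V ∉ J.support := by
    intro h
    have h1 : (J.support : Set V) = Set.univ := by
      refine Set.eq_univ_of_forall fun z => ?_
      have h2 : genericPoint V ⤳ z := genericPoint_specializes z
      exact h2.mem_closed hcl h
    have h3 := K420.DimDrop.dim_support_le V s hdim.le J hJ
    rw [h1] at h3
    have h4 : topologicalKrullDim (Set.univ : Set V) = topologicalKrullDim V :=
      IsHomeomorph.topologicalKrullDim_eq _ (Homeomorph.Set.univ V).isHomeomorph
    rw [h4, hdim] at h3
    exact absurd h3 (not_le.mpr (by exact_mod_cast Nat.lt_succ_self s))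
  have hξU : genericPoint V ∈ U.1 := (genericPoint_specializes c).mem_open U.1.2 hcU
  have h5 := K426.Cut.trd_eq_add_one k (genericPoint_specializes c) U.1 U.2 hcU f
    ((hmem c hcU).mp hcW) (fun z _ hz' hz'' => hmax z ((hmem z (hz'.mem_open U.1.2 hcU)).mpr hz'') hz')
    (by rintro rfl; exact hξ hcW)
  have h6 : (Groth.Agent.VarietyB.DimSch.trd k V (genericPoint V) : WithBot ℕ∞) = topologicalKrullDim V := by
    rw [← K426.DimKit.dim_closure k V (genericPoint V), genericPoint_closure]
    exact IsHomeomorph.topologicalKrullDim_eq _ (Homeomorph.Set.univ V).isHomeomorph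
  have h7 : (Groth.Agent.VarietyB.DimSch.trd k V c : WithBot ℕ∞) = s := by
    rw [hdim] at h6
    have h8 : Groth.Agent.VarietyB.DimSch.trd k V (genericPoint V) = s + 1 := by exact_mod_cast h6
    have h9 : Groth.Agent.VarietyB.DimSch.trd k V c = s := by omega
    exact_mod_cast h9
  rw [← h7, ← K426.DimKit.dim_closure k V c]
  exact DimLt.topologicalKrullDim_mono (closure_minimal (Set.singleton_subset_iff.mpr hcW) hcl)

end dim

/-- A closed subscheme of an affine open which is proper over a field and integral is a point. -/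
theorem dim_zero_of_subset_affine (k : Type u) [Field k] (X : Scheme.{u}) [X.Over (Spec (CommRingCat.of k))]
    [IsProper (X ↘ Spec (CommRingCat.of k))] {V : Scheme.{u}} (i : V ⟶ X) [IsClosedImmersion i] [IsIntegral V]
    (U : X.Opens) (hU : IsAffineOpen U) (h : ∀ v, i v ∈ U) : topologicalKrullDim V = 0 := by
  let g : V ⟶ (U : Scheme.{u}) := IsOpenImmersion.lift U.ι i (by
    rintro _ ⟨v, rfl⟩
    rw [Scheme.Opens.range_ι]
    exact h v)
  have hg : g ≫ U.ι = i := IsOpenImmersion.lift_fac _ _ _
  have hcl : IsClosedImmersion g := by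
    have : IsClosedImmersion (g ≫ U.ι) := by rw [hg]; infer_instance
    exact IsClosedImmersion.of_comp g U.ι
  have hUa : IsAffine (U : Scheme.{u}) := hU
  have hVa : IsAffine V := isAffine_of_isAffineHom g
  let f : V ⟶ Spec (CommRingCat.of k) := i ≫ (X ↘ Spec (CommRingCat.of k))
  have hf : IsProper f := inferInstanceAs (IsProper (i ≫ (X ↘ Spec (CommRingCat.of k))))
  have hfa : IsAffineHom f := inferInstance
  have hfin : IsFinite f := IsFinite.iff_isProper_and_isAffineHom.mpr ⟨hf, hfa⟩
  refine ((K426.DimZero.tfae k f).out 0 3).2 ?_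
  have h1 := f.finite_preimage_singleton (Classical.arbitrary _)
  have h2 : f ⁻¹' {Classical.arbitrary (Spec (CommRingCat.of k))} = Set.univ :=
    Set.eq_univ_of_forall fun v => Subsingleton.elim _ _
  rw [h2] at h1
  exact Set.finite_univ_iff.mp h1

section main

variable (k : Type u) [Field k] (X : Scheme.{u}) [X.Over (Spec (CommRingCat.of k))]
  [IsProper (X ↘ Spec (CommRingCat.of k))] (d : ℕ) (hd : topologicalKrullDim X ≤ d)

include hd in
/-- `(D · c · V)` for `V ⊄ D` integral. -/
theorem inter_dcl_closed {V : Scheme.{u}} (i : V ⟶ X) [IsClosedImmersion i] [IsIntegral V] {I : X.IdealSheafData}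
    (hI : BlowUp.IsEffCartierIdeal I) (hI' : BlowUp.IsEffCartierIdeal (I.comap i)) {r : ℕ} (c : Fin r → Pic X) :
    inter k X d (OZ i) (Fin.cons (dcl hI) c : Fin (r + 1) → Pic X) =
      inter k X d ((Coh.push i).obj (ClSub.quotMod (I.comap i))) c := by
  let : V.Over (Spec (CommRingCat.of k)) := ⟨i ≫ (X ↘ Spec (CommRingCat.of k))⟩
  have hi : i ≫ (X ↘ Spec (CommRingCat.of k)) = V ↘ Spec (CommRingCat.of k) := rfl
  have : IsProper (V ↘ Spec (CommRingCat.of k)) := by rw [← hi]; infer_instance
  have hdV : topologicalKrullDim V ≤ d := (dim_le_of_closed i).trans hd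
  have e : (fun j => pull i ((Fin.cons (dcl hI) c : Fin (r + 1) → Pic X) j)) =
      (Fin.cons (dcl hI') (fun j => pull i (c j)) : Fin (r + 1) → Pic V) := by
    funext j
    cases j using Fin.cases with
    | zero => exact pull_dcl i hI hI'
    | succ j => rfl
  rw [OZ, inter_push k i hi, inter_push k i hi, e, inter_div k V d hdV hI']

include hd in
/-- Expansion of the first entry as a product. -/
theorem inter_prod (F : X.Modules) (hF : Coh.IsCoh F) {r : ℕ}
    (hr : topologicalKrullDim (CohB1.support F) ≤ (r + 1 : ℕ)) (c : Fin r → Pic X)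
    {ι : Type*} (S : Finset ι) (δ : ι → Pic X) (a : ι → ℕ) :
    inter k X d F (Fin.cons (∏ j ∈ S, δ j ^ a j) c : Fin (r + 1) → Pic X) =
      ∑ j ∈ S, (a j : ℤ) * inter k X d F (Fin.cons (δ j) c : Fin (r + 1) → Pic X) := by
  classical
  induction S using Finset.induction_on with
  | empty =>
    rw [Finset.prod_empty, Finset.sum_empty, inter_cons, inv_one]
    exact Groth.Agent.Pic13.H970.IntForm.I_cons_one k X d F _
  | insert j S hj ih =>
    rw [Finset.prod_insert hj, Finset.sum_insert hj, inter_cons_mul k X d hd F hF _ _ _ hr, ih]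
    congr 1
    have := inter_cons_zpow k X d hd F hF (δ j) (a j : ℤ) c hr
    rwa [zpow_natCast] at this

variable {N m : ℕ} (I : Fin N → X.IdealSheafData) (hI : ∀ i, BlowUp.IsEffCartierIdeal (I i))
  (haff : ∀ i, IsAffineOpen (I i).support.compl) (a : Fin m → Fin N → ℕ) (hne : ∀ κ, ∃ i, a κ i ≠ 0)
  (hcov : ∀ z : X, ∃ κ, ∀ i, a κ i ≠ 0 → z ∉ (I i).support) (M : Pic X)
  (hnum : ∀ (κ : Fin m) (F : X.Modules), Coh.IsCoh F → ∀ (r : ℕ) (c : Fin r → Pic X),
    topologicalKrullDim (CohB1.support F) ≤ (r + 1 : ℕ) →
      inter k X d F (Fin.cons M c : Fin (r + 1) → Pic X) =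
        inter k X d F (Fin.cons (∏ i, dcl (hI i) ^ a κ i) c : Fin (r + 1) → Pic X))

include hd hI haff hne hcov hnum in
theorem pos (s : ℕ) : ∀ F : X.Modules, Coh.IsCoh F → topologicalKrullDim (CohB1.support F) = s →
    0 < inter k X d F (fun _ : Fin s => M) := by
  have := Fga.IntAdd.isNoetherian k X
  induction s with
  | zero =>
    intro F hF hdim
    have h := Groth.Agent.Pic13.H970.IntForm.I_pos k X d hd F hF (r := 0) (fun j => j.elim0) (fun j => j.elim0)
      (fun j => j.elim0) hdim
    have e : (fun _ : Fin 0 => M) = fun j => j.elim0 := funext fun j => j.elim0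
    have e' : ∀ c c' : Fin 0 → Pic X, c = c' := fun c c' => funext fun j => j.elim0
    rw [inter_eq_I]
    convert h using 2
  | succ s ih =>
    refine pos_of_integral (fun G => inter k X d G (fun _ : Fin (s + 1) => M)) (isAdd_inter k X d hd _) (s + 1)
      (fun G hG hlt => inter_eq_zero k X d hd G hG _ hlt) ?_
    intro V i _ _ hV
    obtain ⟨κ, hκ⟩ := hcov (i (genericPoint V))
    have hcoh : Coh.IsCoh (OZ i) := isCoh_OZ i
    have hdimOZ : topologicalKrullDim (CohB1.support (OZ i)) = ((s + 1 : ℕ) : WithBot ℕ∞) := by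
      rw [dim_OZ]; exact hV
    have e : (fun _ : Fin (s + 1) => M) = (Fin.cons M (fun _ : Fin s => M) : Fin (s + 1) → Pic X) := by
      funext j
      cases j using Fin.cases with
      | zero => rfl
      | succ j => rfl
    change 0 < inter k X d (OZ i) (fun _ : Fin (s + 1) => M)
    rw [e, hnum κ (OZ i) hcoh s _ hdimOZ.le, inter_prod k X d hd (OZ i) hcoh hdimOZ.le]
    let : V.Over (Spec (CommRingCat.of k)) := ⟨i ≫ (X ↘ Spec (CommRingCat.of k))⟩
    have hi : i ≫ (X ↘ Spec (CommRingCat.of k)) = V ↘ Spec (CommRingCat.of k) := rfl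
    have : IsProper (V ↘ Spec (CommRingCat.of k)) := by rw [← hi]; infer_instance
    have hVN := Fga.IntAdd.isNoetherian k V
    have hterm : ∀ j, a κ j ≠ 0 → 0 < inter k X d (OZ i) (Fin.cons (dcl (hI j)) (fun _ : Fin s => M) : Fin (s + 1) → Pic X) := by
      intro j hj
      have hJ : BlowUp.IsEffCartierIdeal ((I j).comap i) := by
        refine S8862.result i (I j) (hI j) fun ξ hξ => ?_
        have : genericPoint V = ξ := hξ _ (genericPoint_specializes ξ)
        rw [← this]
        exact hκ j hj
      rw [inter_dcl_closed k X d hd i (hI j) hJ]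
      have hnonempty : (((I j).comap i).support : Set V).Nonempty := by
        by_contra hcon
        rw [Set.not_nonempty_iff_eq_empty] at hcon
        have h0 := dim_zero_of_subset_affine k X i (I j).support.compl (haff j) (fun v hv => by
          have : v ∈ ((I j).comap i).support := by
            rw [Scheme.IdealSheafData.support_comap]
            exact hv
          rw [← SetLike.mem_coe, hcon] at this
          exact this)
        rw [h0] at hV
        exact absurd hV (by
          intro h
          have : (0 : ℕ) = s + 1 := by exact_mod_cast h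
          omega)
      have hdim := dim_support_eq k V s hV hJ hnonempty
      have hG : Coh.IsCoh ((Coh.push i).obj (ClSub.quotMod ((I j).comap i))) :=
        S0019.result i _ (isCoh_quotMod V _)
      refine ih _ hG ?_
      rw [CohqB.DevSimple.support_push, ← hdim]
      exact (IsHomeomorph.topologicalKrullDim_eq _
        (i.isClosedEmbedding.isEmbedding.homeomorphImage _).isHomeomorph).symm
    obtain ⟨j₀, hj₀⟩ := hne κ
    refine Finset.sum_pos' (fun j _ => ?_) ⟨j₀, Finset.mem_univ _, ?_⟩
    · by_cases hj : a κ j = 0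
      · rw [hj]; simp
      · exact mul_nonneg (Int.natCast_nonneg _) (hterm j hj).le
    · exact mul_pos (by exact_mod_cast Nat.pos_of_ne_zero hj₀) (hterm j₀ hj₀)

end main

end K76.KC
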